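import Mathlib
import Cfsg.Agent.Lib.Dickson.Invariant
import Cfsg.Agent.Lib.Dickson.StdQuad
import Cfsg.Agent.Lib.Dickson.StdForms
import Cfsg.Agent.Lib.InvolutionTwo.Omega

/-!
When an `O`-class of involutions of `Ω` is a single `Ω`-class, in characteristic two.
-/

set_option autoImplicit false

namespace Cfsg.Agent.Lib.InvolutionSplit

open Orth QuadraticMap

variable {ι : Type} [Fintype ι] [DecidableEq ι] {F : Type*} [Field F] [Finite F] [CharP F 2]
  {Q : QuadraticForm F (ι → F)}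

/-- The nilpotent part `t - 1`. -/
noncomputable def nil (t : ↥(Cfsg.isometryGroup F ⇑Q)) : (ι → F) →ₗ[F] (ι → F) :=
  Matrix.toLin' (((t : Matrix.GeneralLinearGroup ι F) : Matrix ι ι F) - 1)

theorem nil_apply (t : ↥(Cfsg.isometryGroup F ⇑Q)) (x : ι → F) : nil t x = app t x - x := by
  show Matrix.toLin' _ x = _
  rw [Matrix.toLin'_apply, Matrix.sub_mulVec, Matrix.one_mulVec]
  rfl

theorem finrank_range_nil (t : ↥(Cfsg.isometryGroup F ⇑Q)) :
    Module.finrank F (LinearMap.range (nil t)) =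
      (((t : Matrix.GeneralLinearGroup ι F) : Matrix ι ι F) - 1).rank := by
  rw [Matrix.rank, nil, Matrix.toLin'_apply']

theorem range_le_ker {t : ↥(Cfsg.isometryGroup F ⇑Q)} (ht : orderOf t = 2) :
    LinearMap.range (nil t) ≤ LinearMap.ker (nil t) := by
  rintro _ ⟨x, rfl⟩
  have h2 : t * t = 1 := by rw [← pow_two, ← ht]; exact pow_orderOf_eq_one t
  rw [LinearMap.mem_ker, nil_apply, nil_apply, app_sub, ← app_mul, h2, app_one, ← neg_sub (app t x) x]
  funext i
  have e := CharTwo.add_self_eq_zero ((app t x - x) i)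
  simp only [Pi.sub_apply, Pi.neg_apply, Pi.zero_apply] at e ⊢
  linear_combination -e

theorem rank_add_finrank_ker (t : ↥(Cfsg.isometryGroup F ⇑Q)) :
    Module.finrank F (LinearMap.range (nil t)) + Module.finrank F (LinearMap.ker (nil t)) =
      Fintype.card ι := by
  rw [LinearMap.finrank_range_add_finrank_ker, Module.finrank_fintype_fun_eq_card]

variable (hQ : (QuadraticMap.polarBilin Q).Nondegenerate)
  (hex : (∃ c : F, c ≠ 0 ∧ c ≠ 1) ∨ Fintype.card ι ≠ 4)
include hQ hex

theorem mem_omega_iff (g : ↥(Cfsg.isometryGroup F ⇑Q)) :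
    g ∈ Cfsg.Omega F ⇑Q ↔ Even (((g : Matrix.GeneralLinearGroup ι F) : Matrix ι ι F) - 1).rank :=
  (Dickson.mem_omega_iff_charTwo hQ hex _ (fun _ hv => Dickson.dickson_refl hQ hv) g).trans
    (neg_one_pow_eq_one_iff_even (R := ℤˣ) (by decide))

theorem exists_omega_conj_of_fixed {t s : ↥(Cfsg.isometryGroup F ⇑Q)} (hconj : IsConj t s) {v : ι → F}
    (hv : Q v ≠ 0) (hfix : app t v = v) : ∃ g ∈ Cfsg.Omega F ⇑Q, g * t * g⁻¹ = s := by
  obtain ⟨g, hg⟩ := isConj_iff.1 hconj
  have hmem : ∀ x, x ∈ Cfsg.Omega F ⇑Q ↔ Dickson.dickson hQ x = 1 :=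
    Dickson.mem_omega_iff_charTwo hQ hex _ (fun _ hv' => Dickson.dickson_refl hQ hv')
  rcases Int.units_eq_one_or (Dickson.dickson hQ g) with h1 | h1
  · exact ⟨g, (hmem g).2 h1, hg⟩
  · refine ⟨g * refl Q v hv, (hmem _).2 (by rw [map_mul, h1, Dickson.dickson_refl]; rfl), ?_⟩
    have hc : t * refl Q v hv * t⁻¹ = refl Q v hv := (conj_refl t hv).trans (refl_congr _ _ hfix)
    have hcomm : refl Q v hv * t = t * refl Q v hv := (mul_inv_eq_iff_eq_mul.1 hc).symm
    rw [← hg, mul_assoc g (refl Q v hv) t, hcomm, mul_inv_rev, mul_assoc g (t * refl Q v hv),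
      ← mul_assoc (t * refl Q v hv), mul_assoc t, mul_inv_cancel, mul_one, mul_assoc]

omit hex in
theorem singular_ker_bound {t : ↥(Cfsg.isometryGroup F ⇑Q)} (ht : orderOf t = 2)
    (hall : ∀ x ∈ LinearMap.ker (nil t), Q x = 0) :
    2 * Module.finrank F (LinearMap.range (nil t)) = Fintype.card ι ∧
      LinearMap.range (nil t) = LinearMap.ker (nil t) := by
  have h1 := InvolutionTwo.two_mul_finrank_le hQ hall
  rw [Module.finrank_fintype_fun_eq_card] at h1
  have h2 := rank_add_finrank_ker t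
  have h3 := Submodule.finrank_mono (range_le_ker ht)
  exact ⟨by omega, Submodule.eq_of_le_of_finrank_eq (range_le_ker ht) (by omega)⟩

/-- The two cases of the plus type. -/
theorem split_criterion {t s : ↥(Cfsg.isometryGroup F ⇑Q)} (ht : orderOf t = 2) (htO : t ∈ Cfsg.Omega F ⇑Q)
    (hconj : IsConj t s) {m : ℕ} (hcard : Fintype.card ι = m + m) :
    (¬ ((((t : Matrix.GeneralLinearGroup ι F) : Matrix ι ι F) - 1).rank = m ∧ ∀ v, Q (v + app t v) = 0) →
      ∃ g ∈ Cfsg.Omega F ⇑Q, g * t * g⁻¹ = s) ∧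
    (((((t : Matrix.GeneralLinearGroup ι F) : Matrix ι ι F) - 1).rank = m ∧ ∀ v, Q (v + app t v) = 0) →
      ((∃ g ∈ Cfsg.Omega F ⇑Q, g * t * g⁻¹ = s) ↔
        Even (Module.finrank F ↥(LinearMap.range (nil t) ⊓ LinearMap.range (nil s))))) := by
  have hadd : ∀ v, v + app t v = nil t v := fun v => by
    rw [nil_apply]
    funext i
    have e := CharTwo.add_self_eq_zero (v i)
    simp only [Pi.add_apply, Pi.sub_apply]
    linear_combination e
  refine ⟨fun hP => ?_, fun hP => ?_⟩
  · by_contra hno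
    refine hP ?_
    have hall : ∀ x ∈ LinearMap.ker (nil t), Q x = 0 := fun x hx => by
      by_contra hx0
      refine hno (exists_omega_conj_of_fixed hQ hex hconj hx0 ?_)
      rw [LinearMap.mem_ker, nil_apply, sub_eq_zero] at hx
      exact hx
    obtain ⟨h1, h2⟩ := singular_ker_bound hQ ht hall
    rw [finrank_range_nil] at h1
    exact ⟨by omega, fun v => hall _ (h2 ▸ (hadd v).symm ▸ LinearMap.mem_range_self _ v)⟩
  · have hU : Parity.IsLagr Q (LinearMap.range (nil t)) :=
      ⟨fun u hu => by obtain ⟨v, rfl⟩ := hu; rw [← hadd]; exact hP.2 v,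
        by rw [finrank_range_nil, hP.1, Module.finrank_fintype_fun_eq_card, hcard, two_mul]⟩
    set χ := Dickson.classChar hQ hU
    have hm : Even m := hP.1 ▸ (mem_omega_iff hQ hex t).1 htO
    have hmap : ∀ g, g * t * g⁻¹ = s →
        (χ g = 1 ↔ Even (Module.finrank F ↥(LinearMap.range (nil t) ⊓ LinearMap.range (nil s)))) := by
      intro g hg
      have e : (LinearMap.range (nil t)).map (Dickson.toLin Q g).toLinearMap = LinearMap.range (nil s) := by
        rw [← LinearMap.range_comp]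
        have hh : ∀ x, (Dickson.toLin Q g).toLinearMap (nil t x) = nil s (app g x) := fun x => by
          show app g (nil t x) = _
          rw [nil_apply, nil_apply, app_sub, ← hg, app_mul, app_mul, app_inv_app]
        refine le_antisymm ?_ ?_
        · rintro _ ⟨x, rfl⟩
          exact ⟨app g x, (hh x).symm⟩
        · rintro _ ⟨x, rfl⟩
          refine ⟨app g⁻¹ x, ?_⟩
          show (Dickson.toLin Q g).toLinearMap (nil t (app g⁻¹ x)) = _
          rw [hh, app_app_inv]
      show Parity.par _ ((LinearMap.range (nil t)).map (Dickson.toLin Q g).toLinearMap) = 1 ↔ _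
      rw [e, Parity.par, finrank_range_nil, hP.1, neg_one_pow_eq_one_iff_even (R := ℤˣ) (by decide),
        Nat.even_add, iff_true_left hm]
    have hmem := Dickson.mem_omega_iff_charTwo hQ hex χ (fun _ hv => Dickson.classChar_refl hQ hU hv)
    constructor
    · rintro ⟨g, hgO, hg⟩
      exact (hmap g hg).1 ((hmem g).1 hgO)
    · intro he
      obtain ⟨g, hg⟩ := isConj_iff.1 hconj
      exact ⟨g, (hmem g).2 ((hmap g hg).2 he), hg⟩

omit hQ hex

/-- The plus form, phrased for the plain function. -/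
theorem split_criterion_fun {f : (ι → F) → F} (hf : ⇑Q = f) (hQ : (QuadraticMap.polarBilin Q).Nondegenerate)
    (hex : (∃ c : F, c ≠ 0 ∧ c ≠ 1) ∨ Fintype.card ι ≠ 4)
    (t s : ↥(Cfsg.isometryGroup F f)) (ht : orderOf t = 2) (htO : t ∈ Cfsg.Omega F f) (hconj : IsConj t s)
    {m : ℕ} (hcard : Fintype.card ι = m + m) :
    (¬ ((((t : Matrix.GeneralLinearGroup ι F) : Matrix ι ι F) - 1).rank = m ∧
      ∀ v, f (v + Matrix.mulVec ((t : Matrix.GeneralLinearGroup ι F) : Matrix ι ι F) v) = 0) →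
      ∃ g ∈ Cfsg.Omega F f, g * t * g⁻¹ = s) ∧
    (((((t : Matrix.GeneralLinearGroup ι F) : Matrix ι ι F) - 1).rank = m ∧
      ∀ v, f (v + Matrix.mulVec ((t : Matrix.GeneralLinearGroup ι F) : Matrix ι ι F) v) = 0) →
      ((∃ g ∈ Cfsg.Omega F f, g * t * g⁻¹ = s) ↔ Even (Module.finrank F
        ↥(LinearMap.range (Matrix.toLin' (((t : Matrix.GeneralLinearGroup ι F) : Matrix ι ι F) - 1)) ⊓
          LinearMap.range (Matrix.toLin' (((s : Matrix.GeneralLinearGroup ι F) : Matrix ι ι F) - 1)))))) := by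
  subst hf
  exact split_criterion hQ hex ht htO hconj hcard

theorem mem_omega_iff_fun {f : (ι → F) → F} (hf : ⇑Q = f) (hQ : (QuadraticMap.polarBilin Q).Nondegenerate)
    (hex : (∃ c : F, c ≠ 0 ∧ c ≠ 1) ∨ Fintype.card ι ≠ 4) (g : ↥(Cfsg.isometryGroup F f)) :
    g ∈ Cfsg.Omega F f ↔ Even (((g : Matrix.GeneralLinearGroup ι F) : Matrix ι ι F) - 1).rank := by
  subst hf
  exact mem_omega_iff hQ hex g

/-- Classes do not split when there is no totally singular subspace of half the dimension. -/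
theorem no_split_fun {f : (ι → F) → F} (hf : ⇑Q = f) (hQ : (QuadraticMap.polarBilin Q).Nondegenerate)
    (hex : (∃ c : F, c ≠ 0 ∧ c ≠ 1) ∨ Fintype.card ι ≠ 4)
    (hW : ∀ W : Submodule F (ι → F), (∀ x ∈ W, f x = 0) → 2 * Module.finrank F W < Fintype.card ι)
    (t s : ↥(Cfsg.isometryGroup F f)) (ht : orderOf t = 2) (hconj : IsConj t s) :
    ∃ g ∈ Cfsg.Omega F f, g * t * g⁻¹ = s := by
  subst hf
  by_contra hno
  have hall : ∀ x ∈ LinearMap.ker (nil t), Q x = 0 := fun x hx => by
    by_contra hx0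
    refine hno (exists_omega_conj_of_fixed hQ hex hconj hx0 ?_)
    rw [LinearMap.mem_ker, nil_apply, sub_eq_zero] at hx
    exact hx
  obtain ⟨h1, h2⟩ := singular_ker_bound hQ ht hall
  have := hW _ hall
  rw [← h2, h1] at this
  omega

end Cfsg.Agent.Lib.InvolutionSplit
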